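import Cfsg.Agent.H692.IFO.TE6All
import Cfsg.Agent.H321.IF.NormOf
import Cfsg.Agent.H57.IF.E6Word
import Cfsg.Agent.H679.IF.E6Fin

/-!
# S5719, the cell `te6_O` (helper692)

`normForm` : helper321's reduction, helper57's word lemma, helper679's last step. `te6_O` : the cell.
-/

set_option autoImplicit false

namespace Cfsg.Agent.H692.IFO.TE6Fin

open Cfsg Cfsg.Lie Cfsg.Agent.H209.Fxy
open Cfsg.Agent.BpExc.FamTw.Gr
open Cfsg.Agent.H79.SimpleGen Cfsg.Agent.H79.OutChev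
open Cfsg.Agent.H296.ESixGF

theorem wordIndep : Cfsg.Agent.H321.IFE6.WordIndep := fun hw h hind =>
  Cfsg.Agent.H57.IFE6.word_indep hw h hind

theorem finNorm (F : Type*) [Field F] : Cfsg.Agent.H321.IFE6.FinNorm F := by
  intro c d hd hσ
  obtain ⟨d', ε, h1, h2, ζ, h3⟩ := Cfsg.Agent.H679.IF.E6Fin.fin_norm' hd hσ
  refine ⟨ζ, d', ε, h1, Cfsg.Agent.H679.IF.E6Fin.isD_congr h2 ?_, h3⟩
  intro i
  fin_cases i <;> rfl

theorem normForm : TE6O.NormForm := by
  intro F _ _ hr σ y d g hσ hd hg hg1 hxy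
  exact Cfsg.Agent.H321.IFE6.norm_form_of wordIndep (finNorm F) (Ring.two_ne_zero hr) hσ hd hg hg1 hxy

/-- the cell `te6_O` -/
theorem te6_O : ∀ (K : Type) [Field K] [Fintype K] (q : ℕ), IsPrimePow q → Fintype.card K = q ^ 2 →
    IsSimpleGroup ↥(twistedE6 K q) → KillO ↥(twistedE6 K q) := TE6All.te6_O_of normForm

end Cfsg.Agent.H692.IFO.TE6Fin
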