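import Cfsg.Agent.H296.ESixGF
import Cfsg.Agent.H522.FldSix

/-!
# Involutions of graph type of `²E₆(q)` and of `E₆(q)` (helper692, S5719)

`Y = E₆(k)`, `k` algebraically closed, `γ = gr`, `ψ = Frobenius ^ n`.
* `mul_gam`, `core` : the abstract argument (Lang);
* `diag_of_fix` : torus elements fixed by `ψ` induce diagonal automorphisms of `E₆(F)`, `|F| = r ^ n`;
* `transfer` : an involution `x` of `Aut (²E₆(q))` which is not inner: an involution `x'` of graph type of `Aut (E₆(q))`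
  and an embedding of a subgroup `C0` of its fixed points, containing all `r`-elements, into the fixed points of `x`.
-/

set_option autoImplicit false
set_option linter.unusedSectionVars false

namespace Cfsg.Agent.H692.IFO.Lang

open CoxeterSystem Subgroup Cfsg Cfsg.Lie Cfsg.Lie.ChevalleyDatum
open Cfsg.Agent.ChevalleyStructure Cfsg.Agent.ChevalleyStructure.Elts Cfsg.Agent.ChevalleyStructure.CoxeterGeom
  Cfsg.Agent.ChevalleyStructure.CoxeterGeomTypes Cfsg.Agent.ChevalleyStructure.NPerm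
open Cfsg.Agent.Tits.Roots Cfsg.Agent.Tits.Core Cfsg.Agent.Nodes.BNOf
open Cfsg.Agent.Nodes.RGDChev Cfsg.Agent.KFacts.RgdChevCoord Cfsg.Agent.CpAut.RgdUntw
open Cfsg.Agent.GpExc.Field (glMap emb coe_emb glMap_xG emb_injective coe_glMap)
open Cfsg.Agent.BpExc Cfsg.Agent.BpExc.TowChev Cfsg.Agent.BpExc.FamUntw
  Cfsg.Agent.BpExc.FamInst Cfsg.Agent.BpExc.LangFr Cfsg.Agent.BpExc.FamField Cfsg.Agent.BpExc.FamExt
  Cfsg.Agent.BpExc.RowsUntw Cfsg.Agent.BpExc.Tow
open Cfsg.Agent.BpExc.FamTw.Six (em coe_em em_injective twisted_le_group)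
open Cfsg.Agent.BpExc.FamTw.Gr (gr gr_xg xg coe_gr)
open Cfsg.Agent.H522.FamTw.Frame (sig6 rho6 isFrob_sig6 fr_sig6 inListE6)
open Cfsg.Agent.ChevalleyStructure.TwE6Basic (hE6 exists_frob)
open Cfsg.Agent.ChevalleyStructure.GraphSymm (symmE6)
open Cfsg.Agent.H522.FldUntw
open Cfsg.Agent.H296.ESixGF (hp6)
open Cfsg.Agent.H79.SimpleGen (xS)

universe u v

section Abs

variable {G Y : Type*} [Group G] [Group Y] {e : G →* Y} {γ ψ : MulAut Y} {x : MulAut G}

theorem psi_eq (hγ : γ * γ = 1) {b : Y} (h : γ (ψ b) = b) : ψ b = γ b := by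
  have h2 : γ (γ (ψ b)) = ψ b := by rw [← MulAut.mul_apply, hγ]; rfl
  rw [← h2, h]

theorem mul_gam (hγ : γ * γ = 1) (hfix : ∀ g, γ (ψ (e g)) = e g)
    (hcent : ∀ c : Y, (∀ g, c * e g = e g * c) → c = 1) (hx : x * x = 1) {y : Y}
    (hxy : ∀ g, e (x g) = y * ψ (e g) * y⁻¹) : y * γ y = 1 := by
  have hγ' : ∀ b, γ (γ b) = b := fun b => by rw [← MulAut.mul_apply, hγ]; rfl
  have hx' : ∀ g, x (x g) = g := fun g => by rw [← MulAut.mul_apply, hx]; rfl
  refine hcent _ fun g => ?_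
  have h1 := hxy (x g)
  rw [hx', psi_eq hγ (hfix _), hxy, psi_eq hγ (hfix _), map_mul, map_mul, map_inv, hγ'] at h1
  conv_rhs => rw [h1]
  group

/-- **The abstract argument.** -/
theorem core (hγ : γ * γ = 1) (hc : ∀ b, γ (ψ b) = ψ (γ b)) {y z : Y} (hy : γ (ψ y) = y) (hyy : y * γ y = 1)
    (hz : y = z⁻¹ * ψ z) :
    ψ (z * y * (γ z)⁻¹) = z * y * (γ z)⁻¹ ∧ (z * y * (γ z)⁻¹) * γ (z * y * (γ z)⁻¹) = 1 ∧
    ∀ h, ψ h = h → (z * y * (γ z)⁻¹) * γ h * (z * y * (γ z)⁻¹)⁻¹ = h →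
      γ (ψ (z⁻¹ * h * z)) = z⁻¹ * h * z ∧ y * ψ (z⁻¹ * h * z) * y⁻¹ = z⁻¹ * h * z := by
  have hγ' : ∀ b, γ (γ b) = b := fun b => by rw [← MulAut.mul_apply, hγ]; rfl
  have hψy : ψ y = γ y := psi_eq hγ hy
  have hγy : γ y = y⁻¹ := (inv_eq_of_mul_eq_one_right hyy).symm
  have hψz : ψ z = z * y := by rw [hz]; group
  refine ⟨?_, ?_, fun h hh hw => ?_⟩
  · rw [map_mul, map_mul, map_inv, ← hc, hψy, hψz, map_mul, hγy]
    group
  · rw [map_mul, map_mul, map_inv, hγ', hγy]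
    group
  · have e1 : ψ (z⁻¹ * h * z) = y⁻¹ * (z⁻¹ * h * z) * y := by
      rw [map_mul, map_mul, map_inv, hh, hψz]
      group
    have e2 : γ h = γ z * y⁻¹ * z⁻¹ * h * z * y * (γ z)⁻¹ := by
      have h1 : γ h = (z * y * (γ z)⁻¹)⁻¹ * h * (z * y * (γ z)⁻¹) := by
        conv_rhs => rw [← hw]
        group
      rw [h1]
      group
    refine ⟨?_, ?_⟩
    · rw [e1, map_mul, map_mul, map_mul, map_mul, map_inv, map_inv, e2, hγy]
      group
    · rw [e1]
      group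

end Abs

section Diag

variable {D : ChevalleyDatum} {l : ℕ} {M : CoxeterMatrix (Fin l)} (hp : IsType D l M)
  {F : Type u} [Field F] {k : Type v} [Field k] (f : F →+* k)

include hp in
/-- **Torus elements with characters in `F` induce diagonal automorphisms.** -/
theorem diag_of_char {m : ℕ} {B : Fin l → Fin l → ℤ} (hB : InvC D l m B) (hm : m ≠ 0)
    (hroots : ∀ c : F, c ≠ 0 → ∃ b : k, b ^ m = f c) {t : ↥(D.group k)} (ht : t ∈ TT D k) {ψ : MulAut ↥(D.group k)}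
    {θ : k → k} (hψ : ∀ (i : Fin l) (a : k), (ψ ⟨xG hp.inList (D.simple i) a, xG_mem_group hp.inList _ _⟩ :
      GL D.Idx k) = xG hp.inList (D.simple i) (θ a)) (hθ1 : θ 1 = 1) (hθ : ∀ a, θ a = a → a ∈ Set.range f)
    (hψt : ψ t = t) :
    ∃ d : MulAut ↥(D.group F), D.IsDiagonalAut d ∧ ∀ a, emb hp.inList f (d a) = t * emb hp.inList f a * t⁻¹ := by
  obtain ⟨c, hc0, -, hact⟩ := Cfsg.Agent.BpExc.FamTw.Tor.exists_c hp (t := (t : GL D.Idx k)) ht
  have hsl : ∀ i : Fin l, D.simple i < D.nroots := fun i =>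
    Cfsg.Agent.H79.SimpleGen.simple_lt hp.inList (lt_rank hp i)
  have hb : ∀ i : Fin l, ∃ b : F, b ≠ 0 ∧ f b = ∏ j ∈ Finset.range D.rank, c j ^ D.cartan j (D.simple i) := by
    intro i
    have h1 := hact (D.simple i) (hsl i) 1
    have h2 : t * (⟨xG hp.inList (D.simple i) 1, xG_mem_group hp.inList _ _⟩ : ↥(D.group k)) * t⁻¹ =
        ⟨xG hp.inList (D.simple i) ((∏ j ∈ Finset.range D.rank, c j ^ D.cartan j (D.simple i)) * 1),
          xG_mem_group hp.inList _ _⟩ := Subtype.ext h1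
    have h3 := congrArg ψ h2
    rw [map_mul, map_mul, map_inv, hψt] at h3
    have h4 := congrArg Subtype.val h3
    rw [Subgroup.coe_mul, Subgroup.coe_mul, Subgroup.coe_inv, hψ, hψ, hθ1, h1] at h4
    have h5 := xG_injective hp.inList (hsl i) h4
    rw [mul_one] at h5
    obtain ⟨b, hb⟩ := hθ _ h5.symm
    refine ⟨b, ?_, hb⟩
    rintro rfl
    rw [map_zero] at hb
    exact Finset.prod_ne_zero_iff.2 (fun j hj => zpow_ne_zero _ (hc0 j (Finset.mem_range.1 hj))) hb.symm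
  choose b hb0 hb using hb
  have hr : D.rank = l := hp.rank_eq
  obtain ⟨d, hd⟩ := (Cfsg.Agent.H79.DiagAuts.diagFacts hp.inList F).exists_α
    (fun i : Fin D.rank => Units.mk0 (b ⟨i, hr ▸ i.2⟩) (hb0 _))
  have hdd : D.IsDiagonalAut d := (Cfsg.Agent.H79.DiagAuts.diagFacts hp.inList F).isDiag _ d hd
  obtain ⟨t', ht', hd'⟩ := Cfsg.Agent.H296.Core.diag_ext hp f hB hm hroots hdd
  have htt : (t : GL D.Idx k) = t' := by
    refine Cfsg.Agent.BpExc.FamTw.Tor.eq_of_act hp ht ht' fun i => ?_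
    rw [hact _ (hsl i), ← hb, mul_one]
    have h1 := hd' (xS hp.inList (D.simple i) 1)
    have h2 := (hd ⟨i, hr.symm ▸ i.2⟩ 1).1
    rw [show D.simple ((⟨i, hr.symm ▸ i.2⟩ : Fin D.rank) : ℕ) = D.simple i from rfl] at h2
    rw [h2] at h1
    have h3 := congrArg Subtype.val h1
    rw [Subgroup.coe_mul, Subgroup.coe_mul, Subgroup.coe_inv, coe_emb, coe_emb] at h3
    change glMap D f (xG hp.inList _ _) = (t' : GL D.Idx k) * glMap D f (xG hp.inList _ 1) * (t' : GL D.Idx k)⁻¹ at h3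
    rw [glMap_xG, glMap_xG, map_one, mul_one] at h3
    exact h3
  exact ⟨d, hdd, fun a => by rw [hd', Subtype.ext htt]⟩

end Diag

section TwE6

variable {K : Type} [Field K] [Fintype K] {q r n : ℕ} [Fact r.Prime] [CharP K r]
  (f : K →+* AlgebraicClosure (ZMod r))

/-- the closure -/
abbrev kk (r : ℕ) [Fact r.Prime] : Type := AlgebraicClosure (ZMod r)

theorem locFin_kk : LocFin (kk r) := locFin_of_isAlgebraic r _

theorem frb_eq (hn : q = r ^ n) (t : kk r) : ((frb (kk r) r n : kk r ≃+* kk r) : kk r →+* kk r) t = t ^ q := by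
  rw [hn]
  exact frb_apply _ r n t

theorem finite_sig (hn0 : 0 < n) : Finite ↥(fixedSubgroup (sig6 (kk r) r n)) :=
  Sig.finite_fixed locFin_kk hn0 (isFrob_sig6 (k := kk r) r n)

theorem split6 (hn0 : 0 < n) (hn : q = r ^ n) (hK : Fintype.card K = q ^ 2) {y : ↥(chevE6.group (kk r))}
    (hy : sig6 (kk r) r n y = y) : ∃ (a : ↥(twistedE6 K q)) (t : ↥(chevE6.group (kk r))),
      t ∈ TT chevE6 (kk r) ∧ y = em q f a * t ∧ sig6 (kk r) r n t = t := by
  have hq : IsPrimePow q := (isPrimePow_nat_iff _).2 ⟨r, n, Fact.out, hn0, hn.symm⟩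
  obtain ⟨a, ha, t, ht, e⟩ := EmbInst.twE6_split (f := f) hq hK (frb_eq hn) y.2 (congrArg Subtype.val hy)
  have hta : t ∈ chevE6.group (kk r) := by
    have h1 : t = ((em q f ⟨a, ha⟩ : ↥(chevE6.group (kk r))) : GL chevE6.Idx (kk r))⁻¹ * y := by
      rw [coe_em]
      exact eq_inv_mul_of_mul_eq e.symm
    rw [h1]
    exact mul_mem (inv_mem (SetLike.coe_mem _)) y.2
  have e' : y = em q f ⟨a, ha⟩ * ⟨t, hta⟩ := Subtype.ext e
  refine ⟨⟨a, ha⟩, ⟨t, hta⟩, Subgroup.mem_subgroupOf.2 ht, e', ?_⟩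
  have h1 := hy
  rw [e', map_mul, Cfsg.Agent.H522.FamTw.Six.em_fix f r hn0 hn hK] at h1
  exact mul_left_cancel h1

theorem conj6 (hn0 : 0 < n) (hn : q = r ^ n) (hK : Fintype.card K = q ^ 2) {t : ↥(chevE6.group (kk r))}
    (hσt : sig6 (kk r) r n t = t) : ∀ b ∈ (em q f).range, t * b * t⁻¹ ∈ (em q f).range := by
  have hq : IsPrimePow q := (isPrimePow_nat_iff _).2 ⟨r, n, Fact.out, hn0, hn.symm⟩
  rintro _ ⟨a, rfl⟩
  obtain ⟨b, hb⟩ := Cfsg.Agent.H522.FldSix.exists_conj (coe_em f)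
    (EmbInst.twE6_normalizer (f := f) hq hK (frb_eq hn) t.2 (congrArg Subtype.val hσt)) a
  exact ⟨b, hb.symm⟩

/-- the `r`-elements of `Y ^ σ` -/
theorem mem_range_of_rpow (hn0 : 0 < n) (hn : q = r ^ n) (hK : Fintype.card K = q ^ 2)
    {y : ↥(chevE6.group (kk r))} (hy : sig6 (kk r) r n y = y) {m : ℕ} (hm : y ^ r ^ m = 1) : y ∈ (em q f).range := by
  have hfin := finite_sig (r := r) (n := n) hn0
  obtain ⟨a, t, ht, e, hσt⟩ := split6 f hn0 hn hK hy
  have hft : IsOfFinOrder t := Cfsg.Agent.H522.FldSix.isOfFinOrder_of_fixed hσt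
  obtain ⟨j, hj, hj1⟩ := exists_coprime hp6 ht hft
  refine mem_of_pow_mem (N := (em q f).range) hm (m := j) ?_ (Nat.Coprime.pow_left m hj.symm)
  rw [e]
  exact pow_mem_of_split (N := (em q f).range) ⟨_, rfl⟩ (conj6 f hn0 hn hK hσt) (by rw [hj1]; exact one_mem _)

/-- third powers -/
theorem cube_mem_range (hn0 : 0 < n) (hn : q = r ^ n) (hK : Fintype.card K = q ^ 2)
    {y : ↥(chevE6.group (kk r))} (hσy : sig6 (kk r) r n y = y) : y ^ 3 ∈ (em q f).range := by
  have hq : IsPrimePow q := (isPrimePow_nat_iff _).2 ⟨r, n, Fact.out, hn0, hn.symm⟩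
  obtain ⟨a, t, ht, e, hσt⟩ := split6 f hn0 hn hK hσy
  have hW := finite_W hp6 CoxeterMatrix.E₆.toCoxeterSystem
  have C := coordsL (k := kk r) hp6 CoxeterMatrix.E₆.toCoxeterSystem locFin_kk r
  obtain ⟨φ0, hφ0, hqq⟩ := exists_frob hq hK
  have hσx : ∀ (i : Fin 6) (s : kk r), sig6 (kk r) r n (xc hp6 (sr i) s) = xc hp6 (sr (rho6 i)) (s ^ q) := by
    intro i s
    have h1 : phi chevE6 (kk r) r n (xc hp6 (sr i) s) = xc hp6 (sr i) (s ^ q) := by
      rw [← vec_simple hp6 i]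
      have h2 := Cfsg.Agent.CpAut.RgdUntw.fld_xc hp6 (frb (kk r) r n) (simple_lt hp6.inList (lt_rank hp6 i)) s
      rw [frb_apply, ← hn] at h2
      exact h2
    have h3 : ∀ (j : Fin 6) (s : kk r), xc hp6 (sr j) s = xg hE6 (chevE6.simple j) s := by
      intro j s
      apply Subtype.ext
      rw [← vec_simple hp6 j, coe_xc hp6 (simple_lt hp6.inList (lt_rank hp6 j))]
      rfl
    rw [MulAut.mul_apply, h1, h3, h3]
    have h4 := gr_xg (L := kk r) hE6 symmE6 ⟨chevE6.simple i, H522.FamTw.Frame.simple_lt6 i⟩ (s ^ q)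
    rw [H522.FamTw.Frame.simple_eps6, Int.cast_one, one_mul, H522.FamTw.Frame.simple_map6] at h4
    exact h4
  have hchρ : ∀ i, ch hp6 (sr (rho6 i)) t = ch hp6 (sr i) t ^ q := by
    intro i
    have hri := isRoot_sr CoxeterMatrix.E₆.toCoxeterSystem hp6.isCartan i
    have hri' := isRoot_sr CoxeterMatrix.E₆.toCoxeterSystem hp6.isCartan (rho6 i)
    have h1 := congrArg (sig6 (kk r) r n) ((C.coord _ hri).act t ht 1)
    rw [map_mul, map_mul, map_inv, hσt, hσx, hσx, one_pow, (C.coord _ hri').act t ht 1, mul_one, mul_one] at h1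
    exact (C.coord _ hri').inj h1
  have hρρ : ∀ i, rho6 (rho6 i) = i := by decide
  have hch : ∀ i, ∃ c : K, ch hp6 (sr i) t = f c := by
    intro i
    have h1 := hchρ (rho6 i)
    rw [hρρ, hchρ, ← pow_mul, ← sq, ← hK] at h1
    obtain ⟨c, hc⟩ := BpExc.Emb.mem_range_of_pow f h1.symm
    exact ⟨c, hc.symm⟩
  choose c hc using hch
  have hcρ : ∀ i, c (rho6 i) = φ0 (c i) := by
    intro i
    apply f.injective
    rw [← hc, hchρ, hc, hφ0, map_pow]
  have hk1 := S1054.result (F := kk r) chevE6 (by simp)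
  obtain ⟨g, hg⟩ := Cfsg.Agent.H522.FldSix.pow_mem_range hφ0 hqq f CoxeterMatrix.E₆.toCoxeterSystem locFin_kk r
    (center_eq_bot hk1.1 hk1.2) ht hc hcρ
  rw [e]
  exact pow_mem_of_split (N := (em q f).range) ⟨_, rfl⟩ (conj6 f hn0 hn hK hσt) ⟨g, hg⟩

theorem hone6 (hn0 : 0 < n) (hn : q = r ^ n) (hK : Fintype.card K = q ^ 2) (c : ↥(chevE6.group (kk r)))
    (hc : ∀ g, c * em q f g = em q f g * c) : c = 1 := by
  have hq : IsPrimePow q := (isPrimePow_nat_iff _).2 ⟨r, n, Fact.out, hn0, hn.symm⟩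
  obtain ⟨φ0, hφ0, hqq⟩ := exists_frob hq hK
  exact Cfsg.Agent.H522.FamTw.Six.eq_one_of_comm hφ0 hqq f c hc

/-- **The involutions of `Aut (²E₆(q))`.** -/
theorem lift2 (hn0 : 0 < n) (hn : q = r ^ n) (hK : Fintype.card K = q ^ 2)
    {x : MulAut ↥(twistedE6 K q)} (hx : x * x = 1) :
    (∃ a, x = MulAut.conj a) ∨ ∃ y : ↥(chevE6.group (kk r)), sig6 (kk r) r n y = y ∧
      ∀ g, em q f (x g) = y * phi chevE6 (kk r) r n (em q f g) * y⁻¹ := by
  have hq : IsPrimePow q := (isPrimePow_nat_iff _).2 ⟨r, n, Fact.out, hn0, hn.symm⟩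
  have hrp : r.Prime := Fact.out
  have hq1 : 1 < q := by rw [hn]; exact Nat.one_lt_pow hn0.ne' hrp.one_lt
  obtain ⟨φ0, hφ0, hqq⟩ := exists_frob hq hK
  have hW : Finite CoxeterMatrix.F₄.Group := Cfsg.Agent.Nodes.RGDFold.finite_W (hp := Cfsg.Agent.Nodes.RGDTwE6.hp)
    CoxeterMatrix.F₄.toCoxeterSystem Cfsg.Agent.Nodes.RGDTwE6.isCartan Cfsg.Agent.Nodes.RGDTwE6.foldData
  have hΦ : ∀ a, frb (kk r) r n (f a) = f (φ0 a) := by
    intro a
    rw [frb_apply, hφ0, map_pow, hn]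
  obtain ⟨a, τ, y, S, hσy, hy⟩ := Cfsg.Agent.BpExc.FamTw.Six.exists_lift hφ0 hqq CoxeterMatrix.F₄.toCoxeterSystem r f
    hK hq1 (fun a => IsAlgClosed.exists_pow_nat_eq _ (by norm_num)) hΦ x
  have hσy' : sig6 (kk r) r n y = y := by
    rw [MulAut.mul_apply]
    exact hσy
  have hx2 : x ^ 2 = 1 := by rw [pow_two, hx]
  have hτ2 := Cfsg.Agent.BpExc.FamTw.Six.tau_pow_eq_one hφ0 hqq CoxeterMatrix.F₄.toCoxeterSystem r S hx2
  by_cases hτ1 : τ = 1
  · left
    subst hτ1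
    have hy' : ∀ g, em q f (x g) = y * em q f g * y⁻¹ := fun g => by
      rw [hy g, Cfsg.Agent.H522.FamTw.Six.st_one]
    have hyy : y ^ 2 = 1 := by
      refine hone6 f hn0 hn hK _ fun g => ?_
      have h1 : em q f (x (x g)) = y * (y * em q f g * y⁻¹) * y⁻¹ := by rw [hy', hy']
      have h2 : x (x g) = g := by rw [← MulAut.mul_apply, hx]; rfl
      rw [h2] at h1
      conv_rhs => rw [h1]
      rw [pow_two]
      group
    have h3 : y ∈ (em q f).range := mem_of_pow_mem hyy (cube_mem_range f hn0 hn hK hσy') (by norm_num)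
    obtain ⟨b, hb⟩ := h3
    refine ⟨b, MulEquiv.ext fun g => ?_⟩
    apply em_injective f
    rw [hy', MulAut.conj_apply, map_mul, map_mul, map_inv, hb]
  · right
    refine ⟨y, hσy', fun g => ?_⟩
    obtain ⟨i, e, hi, he0, hcard, hfr⟩ := exists_field r Nat.prime_two hτ2 hτ1
    have hep : e = n := by
      have h1 : r ^ (e * 2) = r ^ (2 * n) := by
        rw [← hcard, Nat.card_eq_fintype_card, hK, hn, ← pow_mul, mul_comm]
      have h2 := Nat.pow_right_injective hrp.two_le h1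
      omega
    subst hep
    have hτi : τ ^ i = τ := by
      have h1 : ¬ 2 ∣ i := fun h => by
        have := Nat.Coprime.eq_one_of_dvd (Nat.coprime_comm.1 hi) h
        omega
      obtain ⟨j, rfl⟩ : ∃ j, i = 2 * j + 1 := ⟨i / 2, by omega⟩
      rw [pow_succ, pow_mul, hτ2, one_pow, one_mul]
    rw [hτi] at hfr
    rw [hy g, Cfsg.Agent.H522.FamTw.Six.em_st f r hfr]

end TwE6

section Untw

variable {F : Type} [Field F] [Fintype F] {q r n : ℕ} [Fact r.Prime] [CharP F r]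
  (f : F →+* AlgebraicClosure (ZMod r))

theorem frb_eq' (hn : q = r ^ n) (hF : Fintype.card F = q) (t : kk r) :
    ((frb (kk r) r n : kk r ≃+* kk r) : kk r →+* kk r) t = t ^ Fintype.card F := by
  rw [hF, hn]
  exact frb_apply _ r n t

theorem phi_coe' (y : ↥(chevE6.group (kk r))) :
    ((phi chevE6 (kk r) r n y : ↥(chevE6.group (kk r))) : GL chevE6.Idx (kk r)) =
      glMap chevE6 ((frb (kk r) r n : kk r ≃+* kk r) : kk r →+* kk r) (y : GL chevE6.Idx (kk r)) := by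
  apply Units.ext
  rfl

theorem emb_phi (hn : q = r ^ n) (hF : Fintype.card F = q) (a : ↥(chevE6.group F)) :
    phi chevE6 (kk r) r n (emb hp6.inList f a) = emb hp6.inList f a :=
  Emb.emb_fix hp6.inList (frb_eq' hn hF) phi_coe' a

theorem splitU (hn : q = r ^ n) (hF : Fintype.card F = q) {y : ↥(chevE6.group (kk r))}
    (hy : phi chevE6 (kk r) r n y = y) : ∃ (a : ↥(chevE6.group F)) (t : ↥(chevE6.group (kk r))),
      t ∈ TT chevE6 (kk r) ∧ y = emb hp6.inList f a * t ∧ phi chevE6 (kk r) r n t = t := by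
  have hy' : glMap chevE6 ((frb (kk r) r n : kk r ≃+* kk r) : kk r →+* kk r) (y : GL chevE6.Idx (kk r)) = y := by
    rw [← phi_coe', hy]
  obtain ⟨a, ha, t, ht, e⟩ := EmbSplit.untw_split hp6.inList (f := f)
    (Emb.fix_iff_range (frb_eq' (r := r) (n := n) hn hF)) y.2 hy'
  have hta : t ∈ chevE6.group (kk r) := by
    have h1 : t = ((emb hp6.inList f ⟨a, ha⟩ : ↥(chevE6.group (kk r))) : GL chevE6.Idx (kk r))⁻¹ * y := by
      rw [coe_emb]
      exact eq_inv_mul_of_mul_eq e.symm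
    rw [h1]
    exact mul_mem (inv_mem (SetLike.coe_mem _)) y.2
  have e' : y = emb hp6.inList f ⟨a, ha⟩ * ⟨t, hta⟩ := Subtype.ext e
  refine ⟨⟨a, ha⟩, ⟨t, hta⟩, Subgroup.mem_subgroupOf.2 ht, e', ?_⟩
  have h1 := hy
  rw [e', map_mul, emb_phi f hn hF] at h1
  exact mul_left_cancel h1

/-- **`w ∈ Y ^ ψ`: `conj w * γ` on `E₆(F)`.** -/
theorem aut_of_fix (hn : q = r ^ n) (hF : Fintype.card F = q) {w : ↥(chevE6.group (kk r))}
    (hw : phi chevE6 (kk r) r n w = w) :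
    ∃ (y : ↥(chevE6.group F)) (d : MulAut ↥(chevE6.group F)), chevE6.IsDiagonalAut d ∧
      ∀ a, emb hp6.inList f ((MulAut.conj y * d * gr hp6.inList symmE6 : MulAut ↥(chevE6.group F)) a) =
        w * gr hp6.inList symmE6 (emb hp6.inList f a) * w⁻¹ := by
  obtain ⟨y, t, ht, e, hσt⟩ := splitU f hn hF hw
  obtain ⟨d, hd, hdt⟩ := diag_of_char hp6 f inv_E6 (by norm_num)
    (fun c _ => IsAlgClosed.exists_pow_nat_eq _ (by norm_num)) ht (ψ := phi chevE6 (kk r) r n)
    (θ := fun a => a ^ q) (fun i a => by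
      rw [phi_coe']
      show glMap chevE6 _ (xG hp6.inList _ a) = _
      rw [glMap_xG, frb_eq hn]) (one_pow _) (fun a ha => Emb.mem_range_of_pow f (by rw [hF]; exact ha)) hσt
  refine ⟨y, d, hd, fun a => ?_⟩
  have hnat : gr hp6.inList symmE6 (emb hp6.inList f a) = emb hp6.inList f (gr hp6.inList symmE6 a) :=
    (Cfsg.Agent.H296.ESixGF.gam_E6 r f).nat a
  rw [MulAut.mul_apply, MulAut.mul_apply, MulAut.conj_apply, map_mul, map_mul, map_inv, hdt, hnat, e]
  group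

end Untw

/-- **An involution of `Aut (²E₆(q))` which is not inner, and an involution of graph type of `Aut (E₆(q))`.** -/
theorem transfer {K : Type} [Field K] [Fintype K] {q r n : ℕ} [Fact r.Prime] [CharP K r] (hn0 : 0 < n)
    (hn : q = r ^ n) (hK : Fintype.card K = q ^ 2) {x : MulAut ↥(twistedE6 K q)} (hx : x * x = 1)
    (hne : ∀ a, x ≠ MulAut.conj a) {F : Type} [Field F] [Fintype F] [CharP F r] (hF : Fintype.card F = q) :
    ∃ (y : ↥(chevE6.group F)) (d : MulAut ↥(chevE6.group F)), chevE6.IsDiagonalAut d ∧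
      (MulAut.conj y * d * gr hp6.inList symmE6) * (MulAut.conj y * d * gr hp6.inList symmE6) = 1 ∧
      ∃ (C0 : Subgroup ↥(chevE6.group F)) (j : ↥C0 →* ↥(twistedE6 K q)), Function.Injective j ∧
        (∀ c ∈ C0, (MulAut.conj y * d * gr hp6.inList symmE6 : MulAut ↥(chevE6.group F)) c = c) ∧
        (∀ c, x (j c) = j c) ∧
        ∀ c, (MulAut.conj y * d * gr hp6.inList symmE6 : MulAut ↥(chevE6.group F)) c = c →
          (∃ m, c ^ r ^ m = 1) → c ∈ C0 := by
  obtain ⟨f⟩ := exists_emb r K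
  obtain ⟨f1⟩ := exists_emb r F
  obtain ⟨y, hσy, hxy⟩ := (lift2 f hn0 hn hK hx).resolve_left fun ⟨a, ha⟩ => hne a ha
  have hγ : gr (L := kk r) hp6.inList symmE6 * gr hp6.inList symmE6 = 1 := Cfsg.Agent.H296.ESixGF.gr_sq6
  have hfix : ∀ g, gr (L := kk r) hp6.inList symmE6 (phi chevE6 (kk r) r n (em q f g)) = em q f g := fun g =>
    Cfsg.Agent.H522.FamTw.Six.em_fix f r hn0 hn hK g
  have hyy := mul_gam (e := em q f) hγ hfix (hone6 f hn0 hn hK) hx hxy
  obtain ⟨z, hz⟩ := lang_all hp6 CoxeterMatrix.E₆.toCoxeterSystem (p := r) (e := n) hn0 (phi_isFrob r n)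
    (phi_fr hp6 CoxeterMatrix.E₆.toCoxeterSystem r locFin_kk n) 1 y
  rw [map_one, one_mul] at hz
  have hco : Commute (gr (L := kk r) hp6.inList symmE6) (phi chevE6 (kk r) r n) :=
    Cfsg.Agent.BpExc.FamTw.Gr.gr_mul_fld hp6.inList symmE6 _
  have hcomm : ∀ b, gr (L := kk r) hp6.inList symmE6 (phi chevE6 (kk r) r n b) =
      phi chevE6 (kk r) r n (gr (L := kk r) hp6.inList symmE6 b) := fun b => by
    rw [← MulAut.mul_apply, hco.eq, MulAut.mul_apply]
  have hσy' : gr (L := kk r) hp6.inList symmE6 (phi chevE6 (kk r) r n y) = y := by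
    rw [← MulAut.mul_apply]
    exact hσy
  obtain ⟨hw1, hw2, hw3⟩ := core hγ hcomm hσy' hyy hz
  obtain ⟨w, hw⟩ : ∃ w, w = z * y * (gr (L := kk r) hp6.inList symmE6 z)⁻¹ := ⟨_, rfl⟩
  rw [← hw] at hw1 hw2 hw3
  obtain ⟨y', d, hd, hyd⟩ := aut_of_fix f1 hn hF hw1
  obtain ⟨x', hx'⟩ : ∃ x' : MulAut ↥(chevE6.group F), x' = MulAut.conj y' * d * gr hp6.inList symmE6 := ⟨_, rfl⟩
  rw [← hx'] at hyd
  refine ⟨y', d, hd, ?_⟩
  rw [← hx']
  have hγ' : ∀ b, gr (L := kk r) hp6.inList symmE6 (gr hp6.inList symmE6 b) = b := fun b => by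
    rw [← MulAut.mul_apply, hγ]; rfl
  refine ⟨?_, ?_⟩
  · apply MulEquiv.ext
    intro a
    apply emb_injective hp6.inList f1
    have h0 : emb hp6.inList f1 ((x' * x' : MulAut ↥(chevE6.group F)) a) =
        w * gr (L := kk r) hp6.inList symmE6 (w * gr (L := kk r) hp6.inList symmE6 (emb hp6.inList f1 a) * w⁻¹) *
          w⁻¹ := by
      rw [MulAut.mul_apply, hyd, hyd]
    rw [h0, map_mul, map_mul, map_inv, hγ']
    have h1 : w * (gr (L := kk r) hp6.inList symmE6 w * emb hp6.inList f1 a * (gr hp6.inList symmE6 w)⁻¹) * w⁻¹ =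
        (w * gr (L := kk r) hp6.inList symmE6 w) * emb hp6.inList f1 a * (w * gr hp6.inList symmE6 w)⁻¹ := by group
    rw [h1, hw2, one_mul, inv_one, mul_one, MulAut.one_apply]
  · let C0 : Subgroup ↥(chevE6.group F) :=
      { carrier := {c | x' c = c ∧ z⁻¹ * emb hp6.inList f1 c * z ∈ (em q f).range}
        one_mem' := ⟨map_one _, by rw [map_one, mul_one, inv_mul_cancel]; exact one_mem _⟩
        mul_mem' := by
          rintro a b ⟨ha, ha'⟩ ⟨hb, hb'⟩
          refine ⟨by rw [map_mul, ha, hb], ?_⟩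
          have h1 := mul_mem ha' hb'
          have h2 : z⁻¹ * emb hp6.inList f1 a * z * (z⁻¹ * emb hp6.inList f1 b * z) =
              z⁻¹ * emb hp6.inList f1 (a * b) * z := by
            rw [map_mul]; group
          rwa [h2] at h1
        inv_mem' := by
          rintro a ⟨ha, ha'⟩
          refine ⟨by rw [map_inv, ha], ?_⟩
          have h1 := inv_mem ha'
          have h2 : (z⁻¹ * emb hp6.inList f1 a * z)⁻¹ = z⁻¹ * emb hp6.inList f1 a⁻¹ * z := by
            rw [map_inv]; group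
          rwa [h2] at h1 }
    let j0 : ↥C0 →* ↥((em q f).range) :=
      { toFun := fun c => ⟨z⁻¹ * emb hp6.inList f1 c * z, c.2.2⟩
        map_one' := Subtype.ext (by
          show z⁻¹ * emb hp6.inList f1 ((1 : ↥C0) : ↥(chevE6.group F)) * z = 1
          rw [Subgroup.coe_one, map_one, mul_one, inv_mul_cancel])
        map_mul' := fun a b => Subtype.ext (by
          show z⁻¹ * emb hp6.inList f1 ((a * b : ↥C0) : ↥(chevE6.group F)) * z =
            z⁻¹ * emb hp6.inList f1 a * z * (z⁻¹ * emb hp6.inList f1 b * z)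
          rw [Subgroup.coe_mul, map_mul]
          group) }
    let E := (MonoidHom.ofInjective (em_injective (q := q) f)).symm
    have hE : ∀ b : ↥((em q f).range), em q f (E b) = b := fun b =>
      congrArg Subtype.val ((MonoidHom.ofInjective (em_injective (q := q) f)).apply_symm_apply b)
    have hfixc : ∀ c, x' c = c → gr (L := kk r) hp6.inList symmE6 (phi chevE6 (kk r) r n
          (z⁻¹ * emb hp6.inList f1 c * z)) = z⁻¹ * emb hp6.inList f1 c * z ∧
        y * phi chevE6 (kk r) r n (z⁻¹ * emb hp6.inList f1 c * z) * y⁻¹ = z⁻¹ * emb hp6.inList f1 c * z := by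
      intro c hc
      have h1 := hyd c
      rw [hc] at h1
      exact hw3 _ (emb_phi f1 hn hF c) h1.symm
    refine ⟨C0, E.toMonoidHom.comp j0, ?_, fun c hc => hc.1, fun c => ?_, fun c hc hm => ⟨hc, ?_⟩⟩
    · intro a b hab
      have h1 : j0 a = j0 b := E.injective hab
      have h2 : z⁻¹ * emb hp6.inList f1 a * z = z⁻¹ * emb hp6.inList f1 b * z := congrArg Subtype.val h1
      have h3 := mul_left_cancel (mul_right_cancel h2)
      exact Subtype.ext (emb_injective hp6.inList f1 h3)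
    · apply em_injective f
      have h1 : em q f ((E.toMonoidHom.comp j0) c) = z⁻¹ * emb hp6.inList f1 c * z := hE (j0 c)
      rw [hxy, h1]
      exact (hfixc c c.2.1).2
    · obtain ⟨m, hm⟩ := hm
      have h0 : sig6 (kk r) r n (z⁻¹ * emb hp6.inList f1 c * z) = z⁻¹ * emb hp6.inList f1 c * z := by
        rw [MulAut.mul_apply]
        exact (hfixc c hc).1
      refine mem_range_of_rpow f hn0 hn hK h0 (m := m) ?_
      have h1 := conj_pow (i := r ^ m) (a := z⁻¹) (b := emb hp6.inList f1 c)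
      rw [inv_inv] at h1
      rw [h1, ← map_pow, hm, map_one, mul_one, inv_mul_cancel]

end Cfsg.Agent.H692.IFO.Lang
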