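import Cfsg.Agent.H692.IFO.TE6O
import Cfsg.Agent.H363.IFO.TwE

/-!
# S5719, the cell `te6_O`, from the norm form of the graph involutions of `E₆(q)` (helper692)

`q` even: helper363; `q` odd: `TE6O.odd_of`.
-/

set_option autoImplicit false

namespace Cfsg.Agent.H692.IFO.TE6All

open Cfsg Cfsg.Lie Cfsg.Agent.H209.Fxy

theorem te6_O_of (H1 : TE6O.NormForm) : ∀ (K : Type) [Field K] [Fintype K] (q : ℕ), IsPrimePow q →
    Fintype.card K = q ^ 2 → IsSimpleGroup ↥(twistedE6 K q) → KillO ↥(twistedE6 K q) := by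
  intro K _ _ q hq hK hs
  rcases Nat.even_or_odd q with he | ho
  · exact Cfsg.Agent.H363.IFO.te6_even_O hq hK he
  · exact TE6O.odd_of H1 hq hK ho

end Cfsg.Agent.H692.IFO.TE6All
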