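import Cfsg.Agent.H692.IFO.Lang
import Cfsg.Agent.H460.IFO.Base
import Cfsg.Agent.H999.IF.EngB
import Cfsg.Agent.S1066
import Cfsg.Agent.H977.IFO.E6Card
import Cfsg.Agent.H460.IFO.E6Std

/-!
# S5719, `²E₆(q)`, `q` odd, `|A|` odd (helper692)

* `NormForm` (helper321), `KForm` (proved by helper460), `CardForm` (proved by helper977) : the statements about
  `E₆(q)` which are used;
* `odd_of` : `KillO (²E₆(q))` for odd `q` from `NormForm`.
-/

set_option autoImplicit false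
set_option linter.unusedSectionVars false

namespace Cfsg.Agent.H692.IFO.TE6O

open Subgroup Cfsg Cfsg.Lie Cfsg.Lie.ChevalleyDatum
open Cfsg.Agent.BpExc.FamTw.Gr (gr)
open Cfsg.Agent.ChevalleyStructure.TwE6Basic (hE6 exists_frob)
open Cfsg.Agent.ChevalleyStructure.GraphSymm (symmE6)
open Cfsg.Agent.H296.ESixGF (hp6 rho6 rho6_symm gr_isGr)
open Cfsg.Agent.H79.OutChev (IsD IsGr)
open Cfsg.Agent.H79.SimpleGen (xS eq_xS_iff)
open Cfsg.Agent.H209.Fxy

/-! ### `gr` is a graph automorphism -/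

theorem gr_isGraph {L : Type*} [Field L] : chevE6.IsGraphAut (gr (L := L) hp6.inList symmE6) := by
  refine ⟨rho6, rho6_symm, fun g i t => ⟨fun h => ?_, fun h => ?_⟩⟩
  · rw [(eq_xS_iff hp6.inList g _ t).2 h]
    exact (eq_xS_iff hp6.inList _ _ _).1 (gr_isGr i t).1
  · rw [(eq_xS_iff hp6.inList g _ t).2 h]
    exact (eq_xS_iff hp6.inList _ _ _).1 (gr_isGr i t).2

theorem gr_ne_one {L : Type*} [Field L] : gr (L := L) hp6.inList symmE6 ≠ 1 := by
  intro h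
  have h1 := (gr_isGr (L := L) (0 : Fin 6) 1).1
  rw [h, MulAut.one_apply, one_pow] at h1
  have h2 := congrArg Subtype.val h1
  have h3 := Cfsg.Agent.H522.FamTw.Cent.co_self (hD := hp6.inList) (F := L) 0 1
  have h4 := Cfsg.Agent.H522.FamTw.Cent.co_ne (hD := hp6.inList) (F := L) (i := 0) (r := chevE6.simple 5) (by decide +kernel)
    (by decide +kernel) 1
  have h5 : Cfsg.Agent.H522.FamTw.Cent.Co hp6.inList 0 (Cfsg.Agent.ChevalleyStructure.Elts.xG hp6.inList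
    (chevE6.simple 0) (1 : L)) 0 := by
    have h6 : Cfsg.Agent.ChevalleyStructure.Elts.xG hp6.inList (chevE6.simple 0) (1 : L) =
      Cfsg.Agent.ChevalleyStructure.Elts.xG hp6.inList (chevE6.simple 5) (1 : L) := h2
    rw [h6]
    exact h4
  exact one_ne_zero (Cfsg.Agent.H522.FamTw.Cent.Co.unique (by decide) h3 h5)

/-! ### the statements about `E₆(q)` -/

/-- the standard diagonal automorphism -/
abbrev Std {F : Type} [Field F] (ε : Fˣ) (d' : MulAut ↥(chevE6.group F)) : Prop :=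
  IsD hE6 (fun i : Fin 6 => if i = 1 then ε else 1) d'

/-- (R1) -/
def NormForm : Prop := ∀ (F : Type) [Field F] [Fintype F], ringChar F ≠ 2 →
  ∀ (σ : MulAut ↥(chevE6.group F)) (y : ↥(chevE6.group F)) (d g : MulAut ↥(chevE6.group F)), σ * σ = 1 →
    chevE6.IsDiagonalAut d → chevE6.IsGraphAut g → g ≠ 1 → (∀ a, σ a = y * d (g a) * y⁻¹) →
    ∃ (ζ d' : MulAut ↥(chevE6.group F)) (ε : Fˣ), ε * ε = 1 ∧ Std ε d' ∧
      σ = ζ⁻¹ * (d' * gr hp6.inList symmE6) * ζ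

/-- (K) -/
def KForm : Prop := ∀ (F : Type) [Field F] [Fintype F], ringChar F ≠ 2 →
  ∀ (d' : MulAut ↥(chevE6.group F)) (ε : Fˣ), ε * ε = 1 → Std ε d' →
    ∃ (L : Type) (_ : Group L) (_ : Finite L) (j : L →* ↥(chevE6.group F)), Function.Injective j ∧
      (∀ k, (d' * gr hp6.inList symmE6 : MulAut ↥(chevE6.group F)) (j k) = j k) ∧
      (∀ X : Subgroup L, Odd (Nat.card X) → Nat.card F ^ 9 ≤ X.index) ∧
      Subgroup.closure {k : L | ∃ m, k ^ ringChar F ^ m = 1} = ⊤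

/-- (card) -/
def CardForm : Prop := ∀ (F : Type) [Field F] [Fintype F], ringChar F ≠ 2 →
  ∀ (d' : MulAut ↥(chevE6.group F)) (ε : Fˣ), ε * ε = 1 → Std ε d' →
    ∀ C0 : Subgroup ↥(chevE6.group F), (∀ c, (d' * gr hp6.inList symmE6 : MulAut ↥(chevE6.group F)) c = c →
      (∃ m, c ^ ringChar F ^ m = 1) → c ∈ C0) → Nat.card F ^ 33 ≤ Nat.card C0

theorem kForm : KForm := by
  intro F _ _ hr d' ε hε hd
  have hp : (ringChar F).Prime := CharP.char_is_prime F _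
  have hpf : Fact (ringChar F).Prime := ⟨hp⟩
  have hc : CharP F (ringChar F) := ringChar.charP F
  obtain ⟨L, h1, h2, h3⟩ := Cfsg.Agent.H460.IFO.Six.exists_K (F := F) hr (c := fun i : Fin 6 => if i = 1 then ε else 1)
    (fun i hi => if_neg fun h => hi (by rw [h]; rfl)) hd
  exact ⟨L, inferInstance, inferInstance, L.subtype, L.subtype_injective, fun k => h1 k k.2,
    fun X hX => (h2 X hX).le, h3⟩

theorem cardForm : CardForm := by
  intro F _ _ hr d' ε hε hd C0 h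
  have hp : (ringChar F).Prime := CharP.char_is_prime F _
  have hpf : Fact (ringChar F).Prime := ⟨hp⟩
  have hc : CharP F (ringChar F) := ringChar.charP F
  have h2 : (2 : F) ≠ 0 := by
    intro h0
    have h1 : ringChar F ∣ 2 := by
      refine (CharP.cast_eq_zero_iff F (ringChar F) 2).1 ?_
      exact_mod_cast h0
    exact hr ((Nat.prime_dvd_prime_iff_eq hp Nat.prime_two).1 h1)
  exact Cfsg.Agent.H977.IFO.E6Card.card_pow hε h2 (ringChar F) hd C0 fun g hg1 hg2 => h g hg2 hg1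

/-! ### the order -/

theorem card_le {K : Type*} [Field K] [Fintype K] {q : ℕ} (hq : IsPrimePow q) (hK : Fintype.card K = q ^ 2) :
    Nat.card ↥(twistedE6 K q) ≤ q ^ 78 := by
  have h := Cfsg.Agent.S1066.result hq hK
  have hq2 : 1 < q := hq.one_lt
  have h1 : Nat.card ↥(twistedE6 K q) ≤ Nat.gcd 3 (q + 1) * Nat.card ↥(twistedE6 K q) :=
    Nat.le_mul_of_pos_left _ (Nat.gcd_pos_of_pos_left _ (by norm_num))
  rw [h] at h1
  refine h1.trans ?_
  have e1 : (q ^ 2 - 1) * (q ^ 5 + 1) ≤ q ^ 7 := by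
    obtain ⟨a, ha⟩ : ∃ a, q ^ 2 = a + 1 := ⟨q ^ 2 - 1, by have := Nat.one_le_pow 2 q (by omega); omega⟩
    have hb : a + 1 ≤ q ^ 5 := by rw [← ha]; exact Nat.pow_le_pow_right (by omega) (by norm_num)
    have h7 : q ^ 7 = (a + 1) * q ^ 5 := by rw [← ha]; ring
    rw [h7, ha, Nat.add_sub_cancel]
    nlinarith
  have e2 : (q ^ 6 - 1) * (q ^ 9 + 1) ≤ q ^ 15 := by
    obtain ⟨a, ha⟩ : ∃ a, q ^ 6 = a + 1 := ⟨q ^ 6 - 1, by have := Nat.one_le_pow 6 q (by omega); omega⟩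
    have hb : a + 1 ≤ q ^ 9 := by rw [← ha]; exact Nat.pow_le_pow_right (by omega) (by norm_num)
    have h7 : q ^ 15 = (a + 1) * q ^ 9 := by rw [← ha]; ring
    rw [h7, ha, Nat.add_sub_cancel]
    nlinarith
  have e3 : (q ^ 8 - 1) * (q ^ 12 - 1) ≤ q ^ 20 := by
    calc (q ^ 8 - 1) * (q ^ 12 - 1) ≤ q ^ 8 * q ^ 12 := Nat.mul_le_mul (Nat.sub_le _ _) (Nat.sub_le _ _)
      _ = q ^ 20 := by ring
  calc q ^ 36 * (q ^ 2 - 1) * (q ^ 5 + 1) * (q ^ 6 - 1) * (q ^ 8 - 1) * (q ^ 9 + 1) * (q ^ 12 - 1)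
      = q ^ 36 * ((q ^ 2 - 1) * (q ^ 5 + 1)) * ((q ^ 6 - 1) * (q ^ 9 + 1)) * ((q ^ 8 - 1) * (q ^ 12 - 1)) := by ring
    _ ≤ q ^ 36 * q ^ 7 * q ^ 15 * q ^ 20 :=
        Nat.mul_le_mul (Nat.mul_le_mul (Nat.mul_le_mul_left _ e1) e2) e3
    _ = q ^ 78 := by ring

/-! ### the result -/

/-- **`²E₆(q)`, `q` odd.** -/
theorem odd_of (H1 : NormForm) {K : Type} [Field K] [Fintype K] {q : ℕ}
    (hq : IsPrimePow q) (hK : Fintype.card K = q ^ 2) [IsSimpleGroup ↥(twistedE6 K q)] (hodd : Odd q) :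
    KillO ↥(twistedE6 K q) := by
  intro A Γ h hA
  have H2 := kForm
  have H3 := cardForm
  have hna : ∃ a b : ↥(twistedE6 K q), a * b ≠ b * a := by
    by_contra hcon
    push Not at hcon
    exact (Cfsg.Agent.S1070.result hq hK).2 ⟨⟨hcon⟩⟩
  obtain ⟨x, hxΓ, h2, hne⟩ := Cfsg.Agent.H460.IFO.exists_outer h hA
  have hxx : x * x = 1 := by rw [← pow_two, ← h2, pow_orderOf_eq_one]
  -- the field
  obtain ⟨r, n, hr, hn0, hn⟩ := (isPrimePow_nat_iff _).1 hq
  have hrf : Fact r.Prime := ⟨hr⟩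
  have hchar : CharP K r := by
    obtain ⟨p, hp⟩ := CharP.exists K
    have hpp : p.Prime := CharP.char_is_prime K p
    have h1 : p ∣ Fintype.card K := by
      have : Fact p.Prime := ⟨hpp⟩
      obtain ⟨n, -, h⟩ := FiniteField.card K p
      rw [h]
      exact dvd_pow_self _ n.ne_zero
    rw [hK, ← hn] at h1
    have h3 := (Nat.prime_dvd_prime_iff_eq hpp hr).1 (hpp.dvd_of_dvd_pow (hpp.dvd_of_dvd_pow h1))
    rwa [h3] at hp
  have hfin : Finite (GaloisField r n) := inferInstance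
  have hft : Fintype (GaloisField r n) := Fintype.ofFinite _
  have hF : Fintype.card (GaloisField r n) = q := by
    rw [← Nat.card_eq_fintype_card, GaloisField.card r n hn0.ne', hn]
  have hrc : ringChar (GaloisField r n) = r := ringChar.eq _ r
  have hr2 : ringChar (GaloisField r n) ≠ 2 := by
    rw [hrc]
    rintro rfl
    rw [← hn] at hodd
    exact (Nat.not_even_iff_odd.2 hodd) (Nat.even_pow.2 ⟨even_two, hn0.ne'⟩)
  obtain ⟨y, d, hd, hx', C0, j, hj, hC0, hfix, hmem⟩ := Lang.transfer hn0 hn.symm hK hxx hne hF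
  obtain ⟨x', hxd⟩ : ∃ x' : MulAut ↥(chevE6.group (GaloisField r n)),
    x' = MulAut.conj y * d * gr hp6.inList symmE6 := ⟨_, rfl⟩
  rw [← hxd] at hx' hC0 hmem
  obtain ⟨ζ, d', ε, hε, hst, hx1⟩ := H1 (GaloisField r n) hr2 x' y d _ hx' hd gr_isGraph gr_ne_one
    (fun a => by rw [hxd]; rfl)
  obtain ⟨s, hs⟩ : ∃ s : MulAut ↥(chevE6.group (GaloisField r n)), s = d' * gr hp6.inList symmE6 := ⟨_, rfl⟩
  have hx2 : ∀ c, x' (ζ⁻¹ c) = ζ⁻¹ (s c) := fun c => by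
    rw [hx1, ← hs, MulAut.mul_apply, MulAut.mul_apply, MulAut.apply_inv_self]
  -- (K)
  obtain ⟨L, iL, fL, j1, hj1, hj1s, hodX, hgen⟩ := H2 (GaloisField r n) hr2 d' ε hε hst
  rw [← hs] at hj1s
  have hLC : ∀ k, ζ⁻¹ (j1 k) ∈ C0 := by
    have h1 : (⊤ : Subgroup L) ≤ C0.comap ((ζ⁻¹ : MulAut _).toMonoidHom.comp j1) := by
      rw [← hgen, Subgroup.closure_le]
      rintro k ⟨m, hm⟩
      refine hmem _ ?_ ⟨m, ?_⟩
      · show x' (ζ⁻¹ (j1 k)) = ζ⁻¹ (j1 k)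
        rw [hx2, hj1s]
      · show (ζ⁻¹ (j1 k)) ^ r ^ m = 1
        rw [hrc] at hm
        rw [← map_pow, ← map_pow, hm, map_one, map_one]
    exact fun k => h1 (Subgroup.mem_top k)
  let J : L →* ↥(twistedE6 K q) := j.comp (((ζ⁻¹ : MulAut _).toMonoidHom.comp j1).codRestrict C0 hLC)
  have hJi : Function.Injective J := by
    intro a b hab
    have h1 := hj hab
    have h2 : ζ⁻¹ (j1 a) = ζ⁻¹ (j1 b) := congrArg Subtype.val h1
    exact hj1 ((ζ⁻¹ : MulAut _).injective h2)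
  have hJx : ∀ k, x (J k) = J k := fun k => hfix _
  have hf9 : q ^ 9 ≤ fx A x := by
    have h1 := hodX _ (Cfsg.Agent.H460.IFO.odd_comap hA hJi)
    rw [Nat.card_eq_fintype_card, hF, Subgroup.index_comap] at h1
    refine h1.trans (Cfsg.Agent.H680.Fxy.IF.E1 h hxΓ h2 ?_).1
    rintro _ ⟨k, rfl⟩
    exact hJx k
  -- (card)
  have hc33 : q ^ 33 ≤ Nat.card {g : ↥(twistedE6 K q) // x g = g} := by
    have h1 := H3 (GaloisField r n) hr2 d' ε hε hst (C0.map ζ.toMonoidHom) (fun c hc hm => by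
      rw [← hs] at hc
      refine ⟨ζ⁻¹ c, hmem _ (by rw [hx2, hc]) ?_, MulAut.apply_inv_self _ ζ c⟩
      obtain ⟨m, hm⟩ := hm
      rw [hrc] at hm
      exact ⟨m, by rw [← map_pow, hm, map_one]⟩)
    rw [Nat.card_eq_fintype_card (α := GaloisField r n), hF] at h1
    have h3 : Nat.card (C0.map ζ.toMonoidHom) = Nat.card C0 :=
      (Nat.card_congr (C0.equivMapOfInjective ζ.toMonoidHom ζ.injective).toEquiv).symm
    rw [h3] at h1
    refine h1.trans (Nat.card_le_card_of_injective (fun c : C0 => (⟨j c, hfix c⟩ : {g : ↥(twistedE6 K q) // x g = g}))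
      fun a b hab => hj (congrArg Subtype.val hab))
  have h3 := (Cfsg.Agent.H999.IFB.IF.E2 h hxΓ h2).1
  have h4 := Cfsg.Agent.H999.IFB.card_icl hna x
  have h5 := card_le hq hK
  rw [← h4] at h5
  have h6 : q ^ 45 ≤ fx A x ^ 5 := by
    calc q ^ 45 = (q ^ 9) ^ 5 := by ring
      _ ≤ _ := Nat.pow_le_pow_left hf9 5
  have h7 : q ^ 45 * q ^ 33 < (Cfsg.Agent.H999.IFB.icl x).ncard * Nat.card {g : ↥(twistedE6 K q) // x g = g} :=
    Nat.mul_lt_mul_of_lt_of_le (h6.trans_lt h3) hc33 (lt_of_lt_of_le (pow_pos hq.pos 33) hc33)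
  have h8 : q ^ 45 * q ^ 33 = q ^ 78 := by ring
  omega

end Cfsg.Agent.H692.IFO.TE6O
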